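import Cfsg.Agent.Gag.Dih
import Cfsg.Agent.Gag.EndBas
import Cfsg.Agent.Gag.UInv
import Cfsg.Agent.Blk.AbFreeC

/-!
# The quasisimple normal subgroup (`p` odd)

A perfect group `G ≠ 1` acting faithfully with `Fpf` and `O_p(G) = 1` has a unique involution `z`. Let
`T = ⟨x, y⟩` be a Sylow `2`-subgroup. A proper normal subgroup `N` meets `T` inside `⟨x⟩` (else `G/N` has
cyclic Sylow `2`-subgroups), so is solvable; `F(G)` is central, so `N ≤ Z(G) = ⟨z⟩`.
-/

set_option autoImplicit false
set_option linter.unusedSectionVars false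
set_option linter.unusedVariables false

namespace Cfsg.Gag

open Subgroup MulAction Cfsg.Agent.FT Cfsg.GW

universe u v w

variable {p : ℕ} [hp : Fact p.Prime] {H : Type u} [Group H] [Finite H] {V : Type v}
  [AddCommGroup V] [Module (ZMod p) V] [Finite V] [DistribMulAction H V]

theorem tors_zmod (v : V) : p • v = 0 := by
  rw [← Nat.cast_smul_eq_nsmul (ZMod p), ZMod.natCast_self, zero_smul]

theorem Top.syl (h : Top p H V) : Syl p H V := fun v hv => ⟨h.pgrp v hv, fun e => by
  have h1 := (h.setup tors_zmod).index_stab hv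
  obtain ⟨k, hk⟩ := (h.setup tors_zmod).card_V
  haveI := h.nontriv
  have h2 : k ≠ 0 := by
    rintro rfl
    exact (Finite.one_lt_card (α := V)).ne' hk
  have h3 : p ∣ (stabilizer H v).index + 1 := h1 ▸ hk ▸ dvd_pow_self p h2
  exact hp.out.one_lt.ne' (Nat.dvd_one.1 ((Nat.dvd_add_right e).1 h3))⟩

theorem Top.fpf (h : Top p H V) : Fpf p H V := fun g hg h1 =>
  (h.setup tors_zmod).fpf' (pow_orderOf_eq_one g) hg h1

theorem Fpf.sub (h : Fpf p H V) (K : Subgroup H) : Fpf p K V := fun g hg h1 v e =>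
  h g (by rwa [Subgroup.orderOf_coe]) (fun e => h1 (Subtype.ext e)) v e

theorem Syl.normal (h : Syl p H V) (K : Subgroup H) [K.Normal] : Syl p K V := fun v hv => by
  obtain ⟨h1, h2⟩ := h v hv
  have e : stabilizer K v = (stabilizer H v).subgroupOf K := rfl
  rw [e]
  exact ⟨isPGroup_subgroupOf h1 _, not_dvd_relIndex_sylow_inf_normal (h1.toSylow h2) K⟩

theorem Fpf.smul_eq_neg (h : Fpf p H V) (hp2 : p ≠ 2) {z : H} (hz : orderOf z = 2) (v : V) :
    z • v = -v :=
  eq_neg_of_add_eq_zero_left <| h z (hz ▸ (Nat.coprime_primes Nat.prime_two hp.out).2 hp2.symm)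
    (fun e => by simp [e] at hz) _ (by
      rw [smul_add, ← mul_smul, mul_self_of_orderOf_eq_two hz, one_smul, add_comm])

theorem exists_mem_fixV [Nontrivial V] {K : Subgroup H} (hK : IsPGroup p K) :
    ∃ v : V, v ≠ 0 ∧ v ∈ fixV H V K := by
  obtain ⟨v, -, h1, h2⟩ := FpfEnd.exists_mem_fix (ρ := rho H V) tors_zmod hK (W := ⊤)
    (fun _ _ _ _ => trivial) top_ne_bot
  exact ⟨v, h1, h2⟩

theorem Top.eq_bot (h : Top p H V) {K : Subgroup H} [K.Normal] (hK : IsPGroup p K) : K = ⊥ :=
  (h.setup tors_zmod).eq_bot_of_normal hK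

/-- `isCyclic_of_free` -/
theorem Fpf.isCyclic [Nontrivial V] (h : Fpf p H V) {R : Subgroup H} (hR : ¬ p ∣ Nat.card R)
    (h2 : IsMulCommutative R ∨ ∃ r : ℕ, r.Prime ∧ r ≠ 2 ∧ IsPGroup r R) : IsCyclic R :=
  FreeCyc.isCyclic_of_free (V := Multiplicative V)
    ((MulAutMultiplicative V).symm.toMonoidHom.comp (DistribMulAction.toAddAut R V)) (fun g h1 v e => h.sub R g
      ((hp.out.coprime_iff_not_dvd.2 fun e => hR (e.trans (orderOf_dvd_natCard g))).symm) h1 _ e) h2

/-- subgroups of order `r r'` are abelian (`fix_of_frobenius` in Grp/FpfEnd) -/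
theorem Fpf.commute [Nontrivial V] (h : Fpf p H V) {a b : H} (ha : (orderOf a).Prime)
    (hb : (orderOf b).Prime) (hap : orderOf a ≠ p) (hbp : orderOf b ≠ p)
    (e : a * b * a⁻¹ ∈ zpowers b) : Commute a b := by
  by_contra hc
  have hn : a ∈ 𝓝(zpowers b) := mem_normalizer_of_forall_conj_mem fun y hy => by
    obtain ⟨k, rfl⟩ := mem_zpowers_iff.1 hy
    rw [← conj_zpow]
    exact zpow_mem e k
  haveI := Fact.mk hb
  have hf : MonoidHom.FixedPointFree (conjEndo (zpowers b) hn) :=
    conjEndo_fpf hn fun k hk e' => by_contra fun h1 => hc <| by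
      have h2 : zpowers k = zpowers b := eq_of_le_of_card_ge (zpowers_le.2 hk) (by
        rw [Nat.card_zpowers, Nat.card_zpowers,
          (hb.eq_one_or_self_of_dvd _ (orderOf_dvd_of_mem_zpowers hk)).resolve_left
            (mt orderOf_eq_one_iff.1 h1)])
      obtain ⟨j, hj⟩ := mem_zpowers_iff.1 (h2 ▸ mem_zpowers b : b ∈ zpowers k)
      exact hj ▸ Commute.zpow_right e' j
  have hi := conjEndo_iterate hn (n := orderOf a) (by rw [pow_orderOf_eq_one]; exact one_mem _)
  have c : ∀ {g : H}, (orderOf g).Prime → orderOf g ≠ p → ∀ v : V, g • v = v → v = 0 :=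
    fun h1 h2 => h _ ((Nat.coprime_primes h1 hp.out).2 h2) fun e => h1.one_lt.ne' (by simp [e])
  obtain ⟨v, hv⟩ := exists_ne (0 : V)
  have h3 := FpfEnd.fix_of_frobenius ((rho H V).comp (zpowers b).subtype) (conjEndo _ hn)
    (t := rho H V a) ha.pos (by rw [← map_pow, pow_orderOf_eq_one, map_one]) (c ha hap)
    (fun y => by
      simp only [MonoidHom.comp_apply, ← map_mul, Subgroup.subtype_apply, coe_conjEndo,
        inv_mul_cancel_right]) (fun j h0 hj => Cfsg.Fpf.fpf_iterate ha hi hf h0 hj)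
    ⟨b, mem_zpowers b⟩ v
  rw [Nat.card_zpowers] at h3
  refine hv (FpfEnd.eq_zero_of_smul_of_coprime ((Nat.coprime_primes hb hp.out).2 hbp)
    (c hb hbp _ ?_) (tors_zmod v))
  rw [smul_comm]
  exact h3

section
variable {X : Type w} [Group X] [Finite X] {π : H →* X} {z : H}

theorem Cov.eq_or (hc : Cov π z) {a b : H} (e : π a = π b) : a = b ∨ a = b * z := by
  have : b⁻¹ * a ∈ zpowers z := hc.ker ▸ (by simp [e] : b⁻¹ * a ∈ π.ker)
  exact (eq_one_or_eq_of_mem_zpowers_of_orderOf_two hc.ord this).imp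
    (fun e => (inv_mul_eq_one.1 e).symm) fun e => inv_mul_eq_iff_eq_mul.1 e

theorem Cov.mul_pow (hc : Cov π z) (a : H) {n : ℕ} (hn : Odd n) : (a * z) ^ n = a ^ n * z := by
  obtain ⟨k, rfl⟩ := hn
  rw [Commute.mul_pow (mem_center_iff.1 hc.center_mem a), pow_succ z, pow_mul, pow_two z,
    mul_self_of_orderOf_eq_two hc.ord, one_pow, one_mul]

theorem Cov.exists_lift (hc : Cov π z) {a : X} (ha : Odd (orderOf a)) :
    ∃ b, π b = a ∧ orderOf b = orderOf a := by
  have hz : π z = 1 := (hc.ker ▸ mem_zpowers z : z ∈ π.ker)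
  have key : ∀ b, π b = a → b ^ orderOf a = 1 → ∃ b, π b = a ∧ orderOf b = orderOf a :=
    fun b e h => ⟨b, e, Nat.dvd_antisymm (orderOf_dvd_of_pow_eq_one h) (e ▸ orderOf_map_dvd π b)⟩
  obtain ⟨b, rfl⟩ := hc.surj a
  rcases hc.eq_or (a := b ^ orderOf (π b)) (b := 1) (by
    rw [map_pow, pow_orderOf_eq_one, map_one]) with e | e
  · exact key b rfl e
  · exact key (b * z) (by rw [map_mul, hz, mul_one]) (by
      rw [hc.mul_pow b ha, e, one_mul, mul_self_of_orderOf_eq_two hc.ord])

/-- odd-order elements and subgroups lift uniquely through the central extension -/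
theorem Cov.cp [Nontrivial V] (hc : Cov π z) (h : Fpf p H V) : Cp p X := by
  refine ⟨fun r R hr h2 hrp hR => ?_, fun a b ha hb a2 ap b2 bp e => ?_⟩
  · haveI := Fact.mk hr
    obtain ⟨P⟩ : Nonempty (Sylow r (R.comap π)) := inferInstance
    have hs := π.subgroupComap_surjective_of_surjective R hc.surj
    have h1 : IsPGroup r (P.1.map (R.comap π).subtype) := P.isPGroup'.map _
    have h3 := h.isCyclic (fun e => hrp (IsPGroup.eq_of_prime_dvd_card' h1 hp.out e).symm)
      (Or.inr ⟨r, hr, h2, h1⟩)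
    have h4 : IsCyclic P := (P.1.equivMapOfInjective _ (subtype_injective _)).isCyclic.2 h3
    have h5 : (P.mapSurjective hs : Subgroup R) = ⊤ :=
      ((P.mapSurjective hs).is_maximal' (hR.to_subgroup ⊤) le_top).symm
    refine isCyclic_of_surjective ((π.subgroupComap R).comp P.1.subtype) fun y => ?_
    obtain ⟨w, hw, rfl⟩ : y ∈ P.1.map (π.subgroupComap R) := h5.ge trivial
    exact ⟨⟨w, hw⟩, rfl⟩
  · have ob := hb.odd_of_ne_two b2
    obtain ⟨a', rfl, ea⟩ := hc.exists_lift (ha.odd_of_ne_two a2)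
    obtain ⟨b', rfl, eb⟩ := hc.exists_lift ob
    rw [← ea] at ha ap
    rw [← eb] at hb bp ob
    refine (h.commute ha hb ap bp ?_).map π
    obtain ⟨k, hk⟩ := mem_zpowers_iff.1 e
    rcases hc.eq_or (a := a' * b' * a'⁻¹) (b := b' ^ k) (by simp [hk]) with e | e
    · exact e ▸ zpow_mem (mem_zpowers _) k
    · have h1 := hc.mul_pow (b' ^ k) ob
      rw [← e, conj_pow, pow_orderOf_eq_one, ← zpow_natCast, ← zpow_mul, mul_comm k, zpow_mul,
        zpow_natCast, pow_orderOf_eq_one] at h1
      have h2 := hc.ord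
      rw [show z = 1 by simpa using h1.symm] at h2
      simp at h2

end

theorem not_sol_of_perf {G : Type*} [Group G] (h : commutator G = ⊤) (N : Subgroup G) [N.Normal]
    (hN : N ≠ ⊤) : ¬ Group.IsSolvable (G ⧸ N) := fun hs => by
  haveI := QuotientGroup.nontrivial_iff.2 hN
  refine (IsSolvable.commutator_lt_top_of_nontrivial (G ⧸ N)).ne ?_
  have := map_commutator_eq G (QuotientGroup.mk' N)
  rw [h, ← MonoidHom.range_eq_map, QuotientGroup.range_mk'] at this
  exact this.symm

theorem UInv.inf_le {G : Type*} [Group G] [Finite G] (hp : commutator G = ⊤) {T : Sylow 2 G}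
    {x z : G} (h : UInv T x z) (N : Subgroup G) [N.Normal] (hN : N ≠ ⊤) {y : G} (h1 : y ∈ N)
    (h2 : y ∈ (T : Subgroup G)) : y ∈ zpowers x := by
  by_contra h3
  have hs := QuotientGroup.mk'_surjective N
  haveI : IsCyclic (T.mapSurjective hs : Subgroup (G ⧸ N)) := by
    refine isCyclic_of_le_zpowers (x := (x : G ⧸ N)) ?_
    rintro _ ⟨g, hg, rfl⟩
    rw [← QuotientGroup.mk'_apply, ← MonoidHom.map_zpowers]
    by_cases e : g ∈ zpowers x
    · exact mem_map_of_mem _ e
    · refine ⟨g * y, h.mul_mem' hg e h2 h3, ?_⟩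
      rw [map_mul, QuotientGroup.mk'_apply N y, (QuotientGroup.eq_one_iff y).2 h1, mul_one]
  exact not_sol_of_perf hp N hN
    (hasNormalPComplement_two_of_isCyclic (T.mapSurjective hs)).isSolvable_two

theorem Fpf.exists_cov [Nontrivial V] [Nontrivial H] (h : Fpf p H V) (hp2 : p ≠ 2)
    (hf : ∀ g : H, (∀ v : V, g • v = v) → g = 1) (h0 : pCore p H = ⊥) (hc : commutator H = ⊤) :
    ∃ (z : H) (_ : (zpowers z).Normal), Cov (QuotientGroup.mk' (zpowers z)) z := by
  have hns : ¬ Group.IsSolvable H := fun _ =>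
    (IsSolvable.commutator_lt_top_of_nontrivial H).ne hc
  obtain ⟨z, hz⟩ := exists_prime_orderOf_dvd_card' (G := H) 2
    (by_contra fun e => hns (isSolvable_of_not_two_dvd e))
  have hu : ∀ u : H, orderOf u = 2 → u = z := fun u hu => inv_mul_eq_one.1 (hf _ fun v => by
    rw [mul_smul, h.smul_eq_neg hp2 hz, inv_smul_eq_iff, h.smul_eq_neg hp2 hu])
  have zc : z ∈ center H := mem_center_iff.2 fun g =>
    mul_inv_eq_iff_eq_mul.1 (hu _ (by rw [orderOf_conj_eq, hz]))
  obtain ⟨T⟩ : Nonempty (Sylow 2 H) := inferInstance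
  obtain ⟨x, hx⟩ := exists_uinv (z := z) T.isPGroup' fun v _ e =>
    or_iff_not_imp_left.2 fun h1 => hu v (orderOf_eq_two_of_mul_self e h1)
  have c1 : ∀ (N : Subgroup H) [N.Normal], IsCyclic N → N ≤ center H := fun N _ _ => by
    have := commutator_normalizer_le_centralizer N
    rw [normalizer_eq_top, ← _root_.commutator_def, hc] at this
    exact fun g hg => mem_center_iff.2 fun a => (this (mem_top a) g hg).symm
  have c2 : ∀ (N : Subgroup H) [N.Normal], IsPGroup 2 N → N ≤ zpowers x := fun N _ hN g hg =>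
    hx.inf_le hc N (fun e => hns (isSolvable_of_isPGroup (isPGroup_top_iff.1 (e ▸ hN)))) hg
      (hN.le_sylow_of_normal T hg)
  have hF : fittingSubgroup H ≤ center H := by
    rw [fittingSubgroup_eq_iSup_pCore]
    refine iSup_le fun ⟨r, hr⟩ => ?_
    haveI := Fact.mk hr
    by_cases e : r = p
    · subst e
      exact h0.le.trans bot_le
    refine c1 _ ?_
    by_cases e2 : r = 2
    · subst e2
      exact isCyclic_of_le_zpowers (c2 _ (isPGroup_pCore 2 H))
    · exact h.isCyclic (fun d => e (IsPGroup.eq_of_prime_dvd_card' (isPGroup_pCore r H) hp.out d).symm)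
        (Or.inr ⟨r, hr, e2, isPGroup_pCore r H⟩)
  have hZ : IsPGroup 2 (center H) := isPiGroup_singleton_iff.1 fun r hr hd => by_contra fun e2 => by
    haveI := Fact.mk hr
    obtain ⟨a, ha, ho⟩ := exists_mem_orderOf_eq_prime hd
    have h1 : IsPGroup r (zpowers a) := IsPGroup.of_card (n := 1) (by rw [Nat.card_zpowers, ho, pow_one])
    have a1 : a ≠ 1 := fun e => hr.one_lt.ne (by rw [← ho, e, orderOf_one])
    haveI := normal_of_le_center (zpowers_le.2 ha)
    have e : r ≠ p := by
      rintro rfl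
      exact a1 (mem_bot.1 (h0.le (le_pCore h1 (mem_zpowers a))))
    obtain ⟨P, hP⟩ := h1.exists_le_sylow
    haveI := h.isCyclic (fun d => e (IsPGroup.eq_of_prime_dvd_card' P.isPGroup' hp.out d).symm)
      (Or.inr ⟨r, hr, e2, P.isPGroup'⟩)
    exact a1 (mem_bot.1 ((commutator_inf_sylow_inf_center P).le
      ⟨⟨hc.ge trivial, hP (mem_zpowers a)⟩, ha⟩))
  have hZ' : center H ≤ zpowers z := fun c hc' => by
    obtain ⟨y, hy, hy'⟩ : ∃ y ∈ (T : Subgroup H), y ∉ zpowers x := by
      by_contra! e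
      haveI : IsCyclic T := isCyclic_of_le_zpowers e
      exact hns (hasNormalPComplement_two_of_isCyclic T).isSolvable_two
    have h1 := hx.inv' hy hy' (c2 _ hZ hc')
    rw [mem_center_iff.1 hc' y, mul_inv_cancel_right, eq_inv_iff_mul_eq_one] at h1
    rcases hx.uniq c (hZ.le_sylow_of_normal T hc') h1 with rfl | rfl
    exacts [one_mem _, mem_zpowers _]
  haveI := normal_of_le_center (zpowers_le.2 zc)
  refine ⟨z, inferInstance, QuotientGroup.mk'_surjective _, QuotientGroup.ker_mk' _, hz, hu, hc,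
    isSimpleGroup_quotient_iff.2 ⟨fun e => hns ?_, fun K _ hK => or_iff_not_imp_right.2 fun e => ?_⟩⟩
  · exact isSolvable_of_isPGroup (isPGroup_top_iff.1 (hZ.to_le (e.ge.trans (zpowers_le.2 zc))))
  · haveI : IsCyclic (sylowInfNormal T K : Subgroup K) := by
      haveI : IsCyclic (T ⊓ K : Subgroup H) :=
        isCyclic_of_le_zpowers fun g hg => hx.inf_le hc K e hg.2 hg.1
      rw [← map_sylowInfNormal] at this
      exact (equivMapOfInjective _ _ (subtype_injective _)).isCyclic.2 this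
    haveI := (hasNormalPComplement_two_of_isCyclic (sylowInfNormal T K)).isSolvable_two
    refine le_antisymm (((le_fittingSubgroup_of_le_centralizer K fun g _ a ha => ?_).trans
      hF).trans hZ') hK
    exact (mem_center_iff.1 (hF ha) g).symm

theorem exists_perfect_normal (hns : ¬ Group.IsSolvable H) :
    ∃ E : Subgroup H, E.Normal ∧ E ≠ ⊥ ∧ commutator E = ⊤ := by
  obtain ⟨E, ⟨h1, h2⟩, hm⟩ := (wellFounded_lt (α := Subgroup H)).has_min
    {E | E.Normal ∧ ¬ Group.IsSolvable E} ⟨⊤, inferInstance, fun e => hns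
      (solvable_of_surjective (f := (⊤ : Subgroup H).subtype) fun g => ⟨⟨g, trivial⟩, rfl⟩)⟩
  refine ⟨E, h1, fun e => h2 (e ▸ inferInstance), by_contra fun e => ?_⟩
  refine hm ((commutator E).map E.subtype) ⟨inferInstance, fun hs => h2 ?_⟩
    (lt_of_le_of_ne (map_subtype_le _) fun e' => e (map_injective (subtype_injective E)
      (by rw [e', ← MonoidHom.range_eq_map, range_subtype])))
  haveI : Group.IsSolvable (commutator E) := solvable_of_solvable_injective
    (f := (equivMapOfInjective _ _ (subtype_injective E)).toMonoidHom) (MulEquiv.injective _)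
  exact Group.isSolvable_of_ker_le_range (commutator E).subtype (Abelianization.of) (by simp)

theorem Top.exists_cov (h : Top p H V) (hp2 : p ≠ 2) (hns : ¬ Group.IsSolvable H) :
    ∃ E : Subgroup H, E.Normal ∧ ∃ (X : Type u) (_ : Group X) (_ : Finite X) (π : E →* X) (z : E),
      Cov π z := by
  obtain ⟨E, hE, h1, h2⟩ := exists_perfect_normal hns
  haveI := h.nontriv
  haveI := (nontrivial_iff_ne_bot E).2 h1
  obtain ⟨z, _, hz⟩ := (h.fpf.sub E).exists_cov hp2 (fun g e => Subtype.ext (h.faith g e))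
    ((map_eq_bot_iff_of_injective _ (subtype_injective E)).1
      (h.eq_bot ((isPGroup_pCore p E).map _))) h2
  exact ⟨E, hE, _, _, inferInstance, _, z, hz⟩

end Cfsg.Gag
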