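import Cfsg.Agent.Gag.Five
import Cfsg.Agent.Gag.Comp
import Cfsg.Agent.Grp.OneClass

/-!
# Proper overgroups of `C(t)` have no normal `p`-subgroup
-/

set_option autoImplicit false
set_option linter.unusedSectionVars false

namespace Cfsg.Gag

open Subgroup MulAction Cfsg.Agent.FT Cfsg.GW

universe u v w

variable {p : ℕ} [hp : Fact p.Prime] {X : Type w} [Group X] [Finite X]

section
variable {E : Type u} [Group E] [Finite E] {π : E →* X} {z : E} (hc : Cov π z)
include hc

theorem Cov.zz : z * z = 1 := mul_self_of_orderOf_eq_two hc.ord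

theorem Cov.eq_one_or {g : E} (h : π g = 1) : g = 1 ∨ g = z :=
  eq_one_or_eq_of_mem_zpowers_of_orderOf_two hc.ord (hc.ker ▸ MonoidHom.mem_ker.2 h)

theorem Cov.map_z : π z = 1 := MonoidHom.mem_ker.1 (hc.ker ▸ mem_zpowers z)

theorem Cov.ker_le_center (K : Subgroup X) :
    ((π.comp (K.comap π).subtype).codRestrict K fun g => g.2).ker ≤ center (K.comap π) :=
  fun g hg => mem_center_iff.2 fun a => Subtype.ext (by
    rcases hc.eq_one_or (g := g.1) (congrArg Subtype.val hg) with e | e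
    · simp [e]
    · simpa [e] using mem_center_iff.1 hc.center_mem a.1)

theorem Cov.le_lift {A : Subgroup X} (hA : IsPGroup p A) {B : Subgroup E} (hB : IsPGroup p B)
    (h : B ≤ A.comap π) : B ≤ piCoreOf {p} (A.comap π) :=
  haveI := hA.isNilpotent
  nil_le_piCoreOf (Subgroup.isNilpotent_of_ker_le_center _ (hc.ker_le_center A))
    (isPiGroup_singleton_iff.2 hB) h

theorem Cov.exists_plift {A : Subgroup X} (hA : IsPGroup p A) {a : X} (ha : a ∈ A) :
    ∃ g ∈ piCoreOf {p} (A.comap π), π g = a := by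
  obtain ⟨g, rfl⟩ := hc.surj a
  have h1 : π (pPart p g) = π g := by
    rw [pPart, map_piPart, piPart_eq_self_iff, ← isPElt_iff_isPiNumber]
    exact isPElt_of_mem hA ha
  exact ⟨pPart p g, hc.le_lift hA (isPElt_iff_isPGroup_zpowers.1 (isPElt_pPart p g))
    (zpowers_le.2 (show π (pPart p g) ∈ A from h1 ▸ ha)) (mem_zpowers _), h1⟩

theorem Cov.mem_norm_lift {A : Subgroup X} (hA : IsPGroup p A) {g : E} :
    g ∈ 𝓝(piCoreOf {p} (A.comap π)) ↔ π g ∈ 𝓝(A) := by
  refine ⟨fun h => mem_normalizer_of_forall_conj_mem fun a ha => ?_, fun h =>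
    normalizer_le_normalizer_piCoreOf _ (mem_normalizer_of_forall_conj_mem fun a ha => ?_)⟩
  · obtain ⟨b, hb, rfl⟩ := hc.exists_plift hA ha
    have := piCoreOf_le _ ((mem_normalizer_iff.1 h b).1 hb)
    simpa using this
  · simpa using (mem_normalizer_iff.1 h _).1 ha

theorem Cov.sol_comap (M : Subgroup X) [Group.IsSolvable M] : Group.IsSolvable (M.comap π) :=
  haveI : Group.IsSolvable (center (M.comap π)) := isSolvable_of_isMulCommutative
  Group.isSolvable_of_ker_le_range (center _).subtype _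
    ((hc.ker_le_center M).trans (range_subtype _).ge)

theorem Cov.isPElt {g : E} (h : IsPElt 2 (π g)) : IsPElt 2 g := by
  obtain ⟨k, hk⟩ := isPElt_iff_pow_eq_one.1 h
  refine isPElt_iff_pow_eq_one.2 ⟨k + 1, ?_⟩
  rw [pow_succ, pow_mul, sq]
  rcases hc.eq_one_or (g := g ^ 2 ^ k) (by rw [map_pow, hk]) with e | e <;> rw [e]
  exacts [one_mul 1, hc.zz]

end

theorem Big.not_pgroup {S : Subgroup X} {x s t : X} (hb : Big S x s t) (hp2 : p ≠ 2)
    {A : Subgroup X} (hA : IsPGroup p A) : A ≠ ⊤ := fun e =>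
  ne_one_of_ord hb.dih.ord ((isPElt_of_mem hA (e ▸ mem_top t)).eq_one_of_isPRegular
    ((isPElt_two_of_orderOf hb.dih.ord).isPRegular_of_ne hp2.symm))

theorem Big.exists_rad {S : Subgroup X} {x s t : X} (hb : Big S x s t) (hp2 : p ≠ 2)
    {M : Subgroup X} (hM : M ≠ ⊤) (hle : 𝓒[t] ≤ M) (h0 : piCoreOf {p} M ≠ ⊥) :
    ∃ M : Subgroup X, M ≠ ⊤ ∧ 𝓒[t] ≤ M ∧ 𝓝(piCoreOf {p} M) = M := by
  haveI := hb.simple
  obtain ⟨K, ⟨h1, h2, h3⟩, hm⟩ := Set.Finite.exists_maximal
    (s := {K : Subgroup X | K ≠ ⊤ ∧ 𝓒[t] ≤ K ∧ piCoreOf {p} K ≠ ⊥}) (Set.toFinite _)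
    ⟨M, hM, hle, h0⟩
  have h4 := (piCoreOf_normalOf {p} K).2
  refine ⟨K, h1, h2, le_antisymm (hm ⟨norm_ne_top h3 (hb.not_pgroup hp2 (pgroup_piCoreOf p K)),
    h2.trans h4, fun e => h3 (le_bot_iff.1 (e ▸ le_piCoreOf le_normalizer le_rfl
      (isPiGroup_piCoreOf _ K)))⟩ h4) h4⟩

variable {H : Type u} [Group H] [Finite H] {V : Type v} [AddCommGroup V] [Finite V]
  [DistribMulAction H V] {E : Subgroup H} [hE : E.Normal] {π : E →* X} {z : E}
  {S : Subgroup X} {x s t : X}

theorem Top.core_three (h : Top 3 H V) (hV : ∀ v : V, 3 • v = 0) (hc : Cov π z)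
    (hb : Big S x s t) {M : Subgroup X} (hM : M ≠ ⊤) (hle : 𝓒[t] ≤ M)
    (hN : 𝓝(piCoreOf {3} M) = M) : False := by
  haveI : Group.IsSolvable M := sol_of_npc (hb.caseA hM hle)
  haveI := hc.sol_comap M
  have hA := pgroup_piCoreOf 3 M
  set A := piCoreOf {3} M with hAM
  set A' := piCoreOf {3} (A.comap π) with hA'
  obtain ⟨a, rfl⟩ := hc.surj x
  obtain ⟨b, rfl⟩ := hc.surj s
  have hS : IsPGroup 2 ((S.comap π).map E.subtype) := IsPGroup.map (isPGroup_iff_forall_isPElt.2
    fun g hg => hc.isPElt (isPElt_of_mem hb.dih.syl.pgroup hg)) _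
  obtain ⟨P, hP⟩ := hS.exists_le_sylow
  have haP : (a : H) ∈ (P : Subgroup H) := hP ⟨a, hb.dih.x_mem, rfl⟩
  have hbP : (b : H) ∈ (P : Subgroup H) := hP ⟨b, hb.dih.s_mem, rfl⟩
  obtain ⟨c, hu⟩ := exists_uinv (z := (z : H)) P.isPGroup' fun v _ hv =>
    h.fpf'.uniq_invol (by decide) h.faith (congrArg Subtype.val hc.zz)
      (fun e => ne_one_of_ord hc.ord (Subtype.ext e)) v hv
  have h4 : π a ^ 4 ≠ 1 := fun e => by
    have := hb.big.trans (orderOf_dvd_of_pow_eq_one e)
    omega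
  have h8 : (a : H) ^ 8 ≠ 1 := fun e => h4 (by
    have e1 : a ^ 4 * a ^ 4 = 1 := Subtype.ext (by rw [← pow_add]; exact e)
    by_cases e2 : a ^ 4 = 1
    · rw [← map_pow, e2, map_one]
    · rw [← map_pow, hc.uniq _ (orderOf_eq_two_of_mul_self e1 e2), hc.map_z])
  have hac : (a : H) ∈ zpowers c := by
    by_contra e
    exact h8 (by rw [show 8 = 4 * 2 from rfl, pow_mul, hu.pow_four haP e, one_pow])
  have hbc : (b : H) ∉ zpowers c := fun e => h4 (by
    have e1 : b * a = a * b := Subtype.ext (comm_zpowers e hac)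
    have e2 := hb.dih.pair.conj_eq
    rw [← map_mul, e1, map_mul, mul_inv_cancel_right, eq_inv_iff_mul_eq_one] at e2
    rw [pow_four_eq, e2, one_mul])
  haveI : Group.IsSolvable (H ⧸ E) := by
    have hs := QuotientGroup.mk'_surjective E
    have h1 : ((P.mapSurjective hs : Sylow 2 (H ⧸ E)) : Subgroup (H ⧸ E)) ≤
        zpowers (QuotientGroup.mk' E c) := by
      rintro _ ⟨g, hg, rfl⟩
      rw [← MonoidHom.map_zpowers]
      by_cases e : g ∈ zpowers c
      · exact mem_map_of_mem _ e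
      · refine ⟨_, hu.mul_mem' hg e hbP hbc, ?_⟩
        rw [map_mul, QuotientGroup.mk'_apply E b, (QuotientGroup.eq_one_iff _).2 b.2, mul_one]
    haveI := OneClass.isSolvable_of_isCyclic_sylow_two (K := ⊤) ⟨le_top, (P.mapSurjective hs).isPGroup',
      by simpa using (P.mapSurjective hs).not_dvd_index⟩ (isCyclic_of_le h1)
    exact isSolvable_of_equiv topEquiv
  have hmem : ∀ g : E, (g : H) ∈ 𝓝(A'.map E.subtype) ↔ π g ∈ M := fun g => by
    rw [← hN, ← hc.mem_norm_lift hA]
    refine ⟨fun e => mem_normalizer_of_forall_conj_mem fun y hy => ?_, fun e => le_normalizer_map _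
      (mem_map_of_mem E.subtype e)⟩
    exact (mem_map_iff_mem E.subtype_injective).1
      ((mem_normalizer_iff.1 e _).1 (mem_map_of_mem E.subtype hy))
  set N : Subgroup H := 𝓝(A'.map E.subtype) with hNd
  haveI : Group.IsSolvable N := Group.isSolvable_of_ker_le_range
    ((E.subtype.comp (M.comap π).subtype).codRestrict N fun g => (hmem g).2 g.2)
    ((QuotientGroup.mk' E).comp N.subtype) fun g hg =>
      ⟨⟨⟨g, (QuotientGroup.eq_one_iff _).1 hg⟩, (hmem _).1 g.2⟩, rfl⟩
  have hB : piCoreOf {3} N ⊓ E = A'.map E.subtype := by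
    refine le_antisymm ?_ (le_inf (le_piCoreOf le_normalizer le_rfl
      ((isPiGroup_piCoreOf _ _).map _)) (map_subtype_le _))
    have h1 : IsPGroup 3 ((piCoreOf {3} N).subgroupOf E) := (pgroup_piCoreOf 3 N).comap_subtype
    rw [← subgroupOf_map_subtype]
    refine map_mono (hc.le_lift hA h1 (map_le_iff_le_comap.1 (le_piCoreOf ?_ ?_
      (isPiGroup_singleton_iff.2 (h1.map π)))))
    · rintro _ ⟨g, hg, rfl⟩
      exact (hmem g).1 (piCoreOf_le N hg)
    · intro m hm
      obtain ⟨g, rfl⟩ := hc.surj m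
      refine le_normalizer_map _ (mem_map_of_mem π (mem_normalizer_of_forall_conj_mem fun y hy => ?_))
      exact (mem_normalizer_iff.1 ((piCoreOf_normalOf {3} N).2 ((hmem g).2 hm)) _).1 hy
  refine h.three hV (N := N) (fun g hg => ?_) ((hmem a).2 (hle (hb.dih.le_cent hb.dih.x_mem)))
    ((hmem b).2 (hle (hb.dih.le_cent hb.dih.s_mem))) (isPElt_of_mem P.isPGroup' haP) h8
    (hu.inv' hbP hbc hac)
  rw [hNd, ← hB]
  exact mem_normalizer_of_forall_conj_mem fun y hy =>
    ⟨(mem_normalizer_iff.1 hg y).1 hy.1, hE.conj_mem y hy.2 g⟩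

theorem Cov.omega_mem {E : Type u} [Group E] [Finite E] [DistribMulAction E V] {π : E →* X} {z : E}
    (hc : Cov π z) (hf : Fpf p E V) (hV : ∀ v : V, p • v = 0) (hp2 : p ≠ 2) (hp3 : p ≠ 3)
    {t s : X} (h4 : IsFour t s) {w : E} (hw : w ^ 3 = 1) (h1 : π w * t * (π w)⁻¹ = s)
    (h2 : π w * s * (π w)⁻¹ = t * s) {W : AddSubgroup V}
    (hW : ∀ g : E, π g ∈ four t s → ∀ v ∈ W, g • v ∈ W) {v : V} (hv : v ∈ W) : w • v ∈ W := by
  obtain ⟨a, rfl⟩ := hc.surj t
  obtain ⟨b, hb⟩ : ∃ b, b = w * a * w⁻¹ := ⟨_, rfl⟩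
  obtain ⟨c, hc'⟩ : ∃ c, c = w * b * w⁻¹ := ⟨_, rfl⟩
  have eb : π b = s := by rw [hb, map_mul, map_mul, map_inv, h1]
  have ec : π c = π a * s := by rw [hc', map_mul, map_mul, map_inv, eb, h2]
  have hz : rho E V z = -1 := AddMonoidHom.ext fun v =>
    hf.smul_invol hp2 hc.zz (ne_one_of_ord hc.ord) v
  have ha2 := hc.mul_self (a := a) h4.ord_left
  have hb2 := hc.mul_self (a := b) (eb ▸ h4.ord_right)
  have hab2 := hc.mul_self (a := a * b) (by rw [map_mul, eb]; exact h4.mul.ord_right)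
  have hba : b * a = a * b * z := by
    have e1 := mem_center_iff.1 hc.center_mem
    calc b * a = a⁻¹ * (a * b * (a * b)) * b⁻¹ := by group
      _ = a * (a * a)⁻¹ * z * (b * b)⁻¹ * b := by rw [hab2]; group
      _ = a * b * z := by rw [ha2, hb2, inv_mul_cancel_right, inv_eq_of_mul_eq_one_right hc.zz,
          mul_assoc, ← e1, mul_assoc]
  have hw1 : w ≠ 1 := fun e => h4.ne (by rw [← h1, e, map_one]; group)
  have i2 : rho E V a * rho E V a = -1 := by rw [← map_mul, ha2, hz]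
  have j2 : rho E V b * rho E V b = -1 := by rw [← map_mul, hb2, hz]
  have ji : rho E V b * rho E V a = -(rho E V a * rho E V b) := by
    rw [← map_mul, hba, map_mul, map_mul, hz, mul_neg_one]
  have ww : rho E V w * rho E V w + rho E V w + 1 = 0 := by
    have := FpfEnd.sum_pow_eq_zero (t := rho E V w) (n := 3) (by rw [← map_pow, hw, map_one])
      (hf w (by rw [orderOf_eq_prime hw hw1]
                exact (Nat.coprime_primes Nat.prime_three hp.out).2 hp3.symm) hw1)
    rw [← this]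
    simp only [Finset.sum_range_succ, Finset.sum_range_zero, pow_zero, pow_one, sq]
    abel
  have w1 : rho E V w * rho E V a = rho E V b * rho E V w := by
    rw [← map_mul, ← map_mul, hb, inv_mul_cancel_right]
  have w2 : rho E V w * rho E V b = rho E V c * rho E V w := by
    rw [← map_mul, ← map_mul, hc', inv_mul_cancel_right]
  have w3 : rho E V w * rho E V c = rho E V a * rho E V w := by
    rw [← map_mul, ← map_mul, hc', hb]
    congr 1
    calc w * (w * (w * a * w⁻¹) * w⁻¹) = w ^ 3 * a * (w ^ 3)⁻¹ * w := by rw [pow_succ, sq]; group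
      _ = a * w := by rw [hw]; group
  have m1 := hW a (left_mem_four _ _) v hv
  have m2 := hW b (eb ▸ right_mem_four _ _) v hv
  have m3 := hW c (ec ▸ mul_mem_four _ _) v hv
  have key : 8 • w • v ∈ W := by
    rcases hc.eq_one_or (g := c⁻¹ * (a * b)) (by
      rw [map_mul, map_mul, map_inv, eb, ec, inv_mul_cancel]) with e | e
    · have e1 : rho E V a * rho E V b = rho E V c := by rw [← map_mul, ← inv_mul_eq_one.1 e]
      have := DFunLike.congr_fun (quat_omega i2 j2 e1 (e1 ▸ ji) ww w1 w2 w3) v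
      exact (show (8 • w • v : V) = -(4 • (v + a • v + b • v + c • v) : V) from this) ▸
        neg_mem (nsmul_mem (add_mem (add_mem (add_mem hv m1) m2) m3) 4)
    · have e1 : rho E V a * rho E V b = -rho E V c := by
        rw [← map_mul, inv_mul_eq_iff_eq_mul.1 e, map_mul, hz, mul_neg_one]
      have := DFunLike.congr_fun (quat_omega (i := -rho E V a) (j := -rho E V b) (k := -rho E V c)
        (by rwa [neg_mul_neg]) (by rwa [neg_mul_neg]) (by rwa [neg_mul_neg])
        (by rw [neg_mul_neg, ji, e1]) ww (by rw [mul_neg, neg_mul, w1])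
        (by rw [mul_neg, neg_mul, w2]) (by rw [mul_neg, neg_mul, w3])) v
      exact (show (8 • w • v : V) = -(4 • (v + -(a • v) + -(b • v) + -(c • v)) : V) from this) ▸
        neg_mem (nsmul_mem (add_mem (add_mem (add_mem hv (neg_mem m1)) (neg_mem m2))
          (neg_mem m3)) 4)
  refine AddSubgroup.zmultiples_le.2 key (mem_zmultiples_nsmul_iff.2 ?_)
  exact Nat.Coprime.coprime_dvd_right (addOrderOf_dvd_of_nsmul_eq_zero (hV _))
    (((Nat.coprime_primes Nat.prime_two hp.out).2 hp2.symm).pow_left 3)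

theorem Cov.core_five {E : Type u} [Group E] [Finite E] [DistribMulAction E V] [Nontrivial V]
    {π : E →* X} {z : E} (hc : Cov π z) (hf : Fpf p E V) (hV : ∀ v : V, p • v = 0) (hp2 : p ≠ 2)
    (hp3 : p ≠ 3) (hC : Cp p X) (hb : Big S x s t) {M : Subgroup X} (hle : 𝓒[t] ≤ M) :
    piCoreOf {p} M = ⊥ := by
  haveI := hb.simple
  by_contra h0
  have hA := pgroup_piCoreOf p M
  set A := piCoreOf {p} M with hAM
  set A' := piCoreOf {p} (A.comap π) with hA'
  obtain ⟨w, hwN, hw3, hwt⟩ := hb.exists_omega fun R hR =>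
    hC.cyc 3 R Nat.prime_three (by decide) hp3.symm hR
  have h4 := hb.dih.isFour
  have hFC : four t s ≤ 𝓒[t] := h4.le_cent.trans (by rw [cent_four]; exact inf_le_left)
  obtain ⟨ω, hω3, rfl⟩ : ∃ ω : E, ω ^ 3 = 1 ∧ π ω = w := by
    obtain ⟨g, rfl⟩ := hc.surj w
    refine ⟨g ^ 4, ?_, by rw [map_pow, pow_succ, hw3, one_mul]⟩
    rw [← pow_mul, mul_comm, pow_mul, pow_four_eq]
    rcases hc.eq_one_or (g := g ^ 3) (by rw [map_pow, hw3]) with e | e <;> rw [e]
    · simp
    · rw [hc.zz, one_mul]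
  let K : Subgroup E :=
    { carrier := {g | ∀ v, v ∈ fixV E V A' ↔ g • v ∈ fixV E V A'}
      one_mem' := fun v => by rw [one_smul]
      mul_mem' := fun {a b} ha hb v => by rw [mul_smul, ← ha, ← hb]
      inv_mem' := fun {a} ha v => by rw [ha (a⁻¹ • v), smul_inv_smul] }
  have hK : ∀ g : E, (∀ v ∈ fixV E V A', g • v ∈ fixV E V A') → g ∈ K := fun g hg v => by
    refine ⟨hg v, fun e => ?_⟩
    have h1 : ∀ n : ℕ, g ^ n • g • v ∈ fixV E V A' := fun n => by
      induction n with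
      | zero => rwa [pow_zero, one_smul]
      | succ n ih => rw [pow_succ', mul_smul]; exact hg _ ih
    have := h1 (orderOf g - 1)
    rwa [smul_smul, ← pow_succ, Nat.sub_add_cancel (orderOf_pos g), pow_orderOf_eq_one,
      one_smul] at this
  have hMK : ∀ g : E, π g ∈ M → g ∈ K := fun g hg => hK g fun v hv =>
    smul_mem_fixV ((hc.mem_norm_lift hA).2 ((piCoreOf_normalOf {p} M).2 hg)) hv
  have hωK : ω ∈ K := by
    have h1 := (mem_normalizer_iff.1 hwN t).1 (left_mem_four t s)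
    obtain ⟨s', hs'⟩ : ∃ s', s' = π ω * t * (π ω)⁻¹ := ⟨_, rfl⟩
    have h5 : IsFour t s' ∧ four t s' = four t s := by
      rcases h4.mem_four.1 h1 with e | e | e | e
      · exact absurd (by simpa using e) (ne_one_of_ord h4.ord_left)
      · exact absurd e hwt
      · rw [hs', e]; exact ⟨h4, rfl⟩
      · rw [hs', e]; exact ⟨h4.mul, h4.four_mul⟩
    have h6 : π ω * s' * (π ω)⁻¹ = t * s' := by
      have h7 := (mem_normalizer_iff.1 hwN s').1 (hs' ▸ h1)
      rw [← h5.2] at h7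
      rcases h5.1.mem_four.1 h7 with e | e | e | e
      · exact absurd (by simpa using e) (ne_one_of_ord h5.1.ord_right)
      · refine absurd ?_ hwt
        calc π ω * t * (π ω)⁻¹ = π ω * (π ω * s' * (π ω)⁻¹) * (π ω)⁻¹ := by rw [e]
          _ = π ω ^ 3 * t * (π ω ^ 3)⁻¹ := by rw [hs', pow_succ, sq]; group
          _ = t := by rw [hw3]; group
      · refine absurd ?_ h5.1.ne
        rw [hs'] at e
        exact (by simpa using e : π ω * t * (π ω)⁻¹ = t).symm.trans hs'.symm
      · exact e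
    exact hK ω fun v hv => hc.omega_mem hf hV hp2 hp3 h5.1 hω3 hs'.symm h6
      (fun g hg u hu => (hMK g (hle (hFC (h5.2 ▸ hg))) u).1 hu) hv
  have hCK : 𝓒[t] ≤ K.map π := fun m hm => by
    obtain ⟨g, rfl⟩ := hc.surj m
    exact mem_map_of_mem π (hMK g (hle hm))
  by_cases htop : K.map π = ⊤
  · have hall : ∀ g : E, g ∈ K := fun g => by
      obtain ⟨k, hk, e⟩ : π g ∈ K.map π := htop ▸ mem_top _
      have := mul_mem hk (hMK (k⁻¹ * g) (by rw [map_mul, map_inv, e, inv_mul_cancel]; exact one_mem _))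
      rwa [mul_inv_cancel_left] at this
    let C : Subgroup E := ⨅ v ∈ fixV E V A', stabilizer E v
    have hmC : ∀ g, g ∈ C ↔ ∀ v ∈ fixV E V A', g • v = v := fun g => by
      simp only [C, mem_iInf, mem_stabilizer_iff]
    haveI : C.Normal := ⟨fun n hn g => (hmC _).2 fun v hv => by
      rw [mul_smul, mul_smul, (hmC n).1 hn _ ((hall g⁻¹ v).1 hv), smul_inv_smul]⟩
    obtain ⟨v, -, hv0, hv⟩ := FpfEnd.exists_mem_fix (ρ := rho E V) hV (pgroup_piCoreOf p (A.comap π))
      (W := ⊤) (fun _ _ _ _ => trivial) top_ne_bot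
    have hCp : IsPGroup p C := (hf.isPGroup_stabilizer hv0).to_le fun g hg => (hmC g).1 hg v hv
    rcases (Normal.map this π hc.surj).eq_bot_or_eq_top with e | e
    · refine h0 (eq_bot_iff.2 fun a ha => ?_)
      obtain ⟨g, hg, rfl⟩ := hc.exists_plift hA ha
      exact e ▸ mem_map_of_mem π ((hmC g).2 fun v hv => hv g hg)
    · exact hb.not_pgroup hp2 (hCp.map π) e
  · have h1 := (hb.caseA htop hCK).mem_centralizer (Q := (four t s).subgroupOf _)
      h4.pgroup.comap_subtype (x := ⟨π ω, mem_map_of_mem π hωK⟩)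
      (by rw [← isPRegular_coe_iff]
          exact (isPElt_iff_pow_eq_one.2 ⟨1, hw3⟩ : IsPElt 3 _).isPRegular_of_ne (by decide))
      (mem_normalizer_of_forall_conj_mem fun y hy => (mem_normalizer_iff.1 hwN _).1 hy)
    have h2 := congrArg Subtype.val (h1 ⟨t, hCK (hFC (left_mem_four t s))⟩ (left_mem_four t s))
    exact hwt (mul_inv_eq_iff_eq_mul.2 h2.symm)

end Cfsg.Gag
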