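import Cfsg.Agent.Gag.Fin
import Cfsg.Agent.Gag.Core
import Cfsg.Agent.GW.Main

/-! # Gagola's theorem for odd `p`: the simple section is `A₇` or `PSL₂(q)` -/

set_option autoImplicit false
set_option linter.unusedSectionVars false
set_option linter.unusedVariables false

namespace Cfsg.Gag

open Subgroup MulAction Cfsg.Agent.FT Cfsg.GW

universe u v w

variable {p : ℕ} [hp : Fact p.Prime] {H : Type u} [Group H] [Finite H] {V : Type v}
  [AddCommGroup V] [Module (ZMod p) V] [Finite V] [DistribMulAction H V]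

theorem Top.core_eq_bot (h : Top p H V) (hp2 : p ≠ 2) {E : Subgroup H} [E.Normal] {X : Type w}
    [Group X] [Finite X] {π : E →* X} {z : E} (hc : Cov π z) {S : Subgroup X} {x s t : X}
    (hb : Big S x s t) (M : Subgroup X) (hM : M ≠ ⊤) (hle : 𝓒[t] ≤ M) : piCoreOf {p} M = ⊥ := by
  haveI := h.nontriv
  have hV : ∀ v : V, p • v = 0 := fun v => by
    rw [← Nat.cast_smul_eq_nsmul (ZMod p), ZMod.natCast_self, zero_smul]
  by_cases h3 : p = 3
  · by_contra h0
    obtain ⟨M, h1, h2, h4⟩ := hb.exists_rad hp2 hM hle h0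
    subst h3
    exact h.core_three hV hc hb h1 h2 h4
  · exact hc.core_five (h.fpf.sub E) hV hp2 h3 (hc.cp (h.fpf.sub E)) hb hle

theorem Top.exists_known (h : Top p H V) (hp2 : p ≠ 2) (hns : ¬ Group.IsSolvable H) :
    ∃ E : Subgroup H, E.Normal ∧ ∃ (X : Type u) (_ : Group X) (_ : Finite X) (π : E →* X) (z : E),
      Cov π z ∧ Known X := by
  obtain ⟨E, hE, X, _, _, π, z, hc⟩ := h.exists_cov hp2 hns
  refine ⟨E, hE, X, inferInstance, inferInstance, π, z, hc, ?_⟩
  obtain ⟨S, x, s, t, hd⟩ := hc.exists_gdih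
  haveI := h.nontriv
  by_cases h8 : 8 ∣ orderOf x
  · have hb : Big S x s t := ⟨hc.simple, hc.nonab, hd, h8⟩
    exact hb.known (hc.cp (h.fpf.sub E)) (h.core_eq_bot hp2 hc hb)
  · exact gw hc.simple hc.nonab ((hd.isD8 h8).of_injective (topEquiv (G := X)).symm.toMonoidHom
      (topEquiv (G := X)).symm.injective)

end Cfsg.Gag
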