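import Cfsg.Agent.Char.Gagola
import Cfsg.Agent.Gag.Comp
import Cfsg.Agent.Gag.EndMain
import Cfsg.Agent.Gag2.Main
import Cfsg.Agent.Gag2.PMain

/-! # Gagola's theorem: reduction to linear groups, and the case `p = 2` -/

set_option autoImplicit false
set_option linter.unusedSectionVars false
set_option linter.unusedVariables false

namespace Cfsg.Gag

open Subgroup MulAction

universe u v

theorem exists_top {G : Type u} [Group G] [Finite G] (hG : 2 < Nat.card G) (χ : IrrCharacter G)
    (hχ : Nat.card {C : ConjClasses G // ∃ g ∈ C.carrier, (χ : G → ℂ) g ≠ 0} = 2) :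
    ∃ p : ℕ, p.Prime ∧ (∀ q : ℕ, q.Prime → (pCore q G ≠ ⊥ ↔ q = p)) ∧
      ∃ (V : Type u) (_ : AddCommGroup V) (_ : Finite V) (_ : Module (ZMod p) V)
        (_ : DistribMulAction (G ⧸ pCore p G) V), Top p (G ⧸ pCore p G) V := by
  obtain ⟨N, hN⟩ := exists_isGagola hG χ hχ
  obtain ⟨p, hp, hpN⟩ := hN.exists_prime
  have := Fact.mk hp
  have := hN.normal
  have := hN.isMulCommutative
  have hNp : IsPGroup p N := fun a => ⟨1, Subtype.ext (by simpa using hpN a a.2)⟩
  have hC : pCore p G ≤ (MulAut.conjNormal : G →* MulAut N).ker := fun g hg => by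
    ext a
    by_cases ha : (a : G) = 1
    · simp [ha]
    obtain ⟨P, hP⟩ := hN.exists_sylow_centralizer hNp a.2 ha
    simpa [mul_inv_eq_iff_eq_mul] using
      mem_centralizer_singleton_iff.1 (hP ▸ pCore_le_sylow P hg)
  let ρ := QuotientGroup.lift (pCore p G) MulAut.conjNormal hC
  letI : CommGroup N := { mul_comm := mul_comm' }
  letI : DistribMulAction (G ⧸ pCore p G) (Additive N) :=
    { smul := fun h v => Additive.ofMul (ρ h v.toMul)
      one_smul := fun v => by change Additive.ofMul (ρ 1 v.toMul) = v; simp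
      mul_smul := fun a b v => by
        change Additive.ofMul (ρ (a * b) v.toMul) = Additive.ofMul (ρ a (ρ b v.toMul)); simp
      smul_zero := fun a => by change Additive.ofMul (ρ a 1) = 0; simp
      smul_add := fun a v w => by
        change Additive.ofMul (ρ a (v.toMul * w.toMul)) =
          Additive.ofMul (ρ a v.toMul * ρ a w.toMul)
        simp }
  have hsm : ∀ (g : G) (v w : Additive N), (g : G ⧸ pCore p G) • v = w ↔
      g * v.toMul * g⁻¹ = w.toMul := fun g v w =>
    ⟨fun h => h ▸ rfl, fun h => Additive.toMul.injective (Subtype.ext h)⟩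
  have hnt : Nontrivial N := (nontrivial_iff_ne_bot _).2 hN.ne_bot
  have hV : ∀ v : Additive N, p • v = 0 := fun v =>
    Additive.toMul.injective (Subtype.ext (by simpa using hpN _ v.toMul.2))
  have hne : ∀ v : Additive N, v ≠ 0 → (v.toMul : G) ≠ 1 := fun v hv h =>
    hv (Additive.toMul.injective (Subtype.ext h))
  refine ⟨p, hp, fun q hq => ⟨fun h => ?_, ?_⟩, Additive N, inferInstance, inferInstance,
    AddCommGroup.zmodModule hV, inferInstance, inferInstance, fun g hg => ?_, fun v hv => ?_,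
    fun v w hv hw => ?_⟩
  · have := Fact.mk hq
    obtain ⟨k, hk⟩ := ((isPGroup_pCore q G).to_le (hN.le_of_normal _ h)).exists_card_eq
    exact ((Nat.prime_dvd_prime_iff_eq hp hq).1 (hp.dvd_of_dvd_pow (hk ▸ hN.dvd_card hNp))).symm
  · rintro rfl h
    exact hN.ne_bot (le_bot_iff.1 (h ▸ le_pCore hNp))
  · obtain ⟨g, rfl⟩ := QuotientGroup.mk_surjective g
    obtain ⟨a, ha, ha1⟩ := hN.exists_ne_one
    refine (QuotientGroup.eq_one_iff g).2 (le_pCore (N := centralizer (N : Set G))
      ((hN.isPGroup_centralizer hNp ha ha1).to_le (centralizer_le (by simpa))) fun b hb => ?_)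
    exact (mul_inv_eq_iff_eq_mul.1 ((hsm g (Additive.ofMul ⟨b, hb⟩) _).1 (hg _))).symm
  · refine isPGroup_iff_forall_isPElt.2 fun g hg => ?_
    obtain ⟨g, rfl⟩ := QuotientGroup.mk_surjective g
    rw [mem_stabilizer_iff, hsm, mul_inv_eq_iff_eq_mul] at hg
    exact (isPElt_of_mem (hN.isPGroup_centralizer hNp v.toMul.2 (hne v hv))
      (mem_centralizer_singleton_iff.2 hg)).map (QuotientGroup.mk' _)
  · obtain ⟨g, hg⟩ := isConj_iff.1 (hN.isConj _ v.toMul.2 _ w.toMul.2 (hne v hv) (hne w hw))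
    exact ⟨g, (hsm g v w).2 hg⟩

theorem concl_two {H : Type u} [Group H] [Finite H] {V : Type v} [AddCommGroup V]
    [Module (ZMod 2) V] [Finite V] [DistribMulAction H V] (h : Top 2 H V)
    (hns : ¬ Group.IsSolvable H) : Concl 2 H := by
  haveI := h.nontriv
  haveI : Fact (Nat.Prime 3) := ⟨Nat.prime_three⟩
  have hV : ∀ v : V, 2 • v = 0 := tors_zmod
  have h2 : ∀ v : V, v + v = 0 := fun v => (two_nsmul v).symm.trans (hV v)
  obtain ⟨E, hE, hE0, hp⟩ := exists_perfect_normal hns
  haveI : Nontrivial E := (nontrivial_iff_ne_bot E).2 hE0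
  haveI : FaithfulSMul E V := ⟨fun {a b} e => Subtype.ext (inv_mul_eq_one.1 (h.faith _ fun v => by
    rw [mul_smul, inv_smul_eq_iff]
    exact (e v).symm))⟩
  have h3 : 3 ∣ Nat.card E := by_contra fun h3 =>
    Gag2.false_of_not_three_dvd h2 (h.syl.normal E) hp h3
  obtain ⟨y, hy⟩ := exists_prime_orderOf_dvd_card' 3 h3
  have hy1 : y ≠ 1 := fun e => by simp [e] at hy
  obtain ⟨y', hy', ne⟩ : ∃ y' : H, orderOf y' = 3 ∧ y' ∉ zpowers (y : H) := by
    by_contra! hall
    have hn : (zpowers y).Normal := ⟨fun a ha g => by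
      obtain ⟨k, rfl⟩ := mem_zpowers_iff.1 ha
      rw [← conj_zpow]
      refine zpow_mem ?_ k
      have := hall (g * y * g⁻¹ : E) (by rw [orderOf_coe, orderOf_conj_eq, hy])
      rwa [← coe_subtype, ← MonoidHom.map_zpowers, mem_map_iff_mem E.subtype_injective] at this⟩
    have hc : y ∈ center E := mem_center_iff.2 fun g =>
      (commutator_normalizer_le_centralizer (zpowers y) (by
        rw [normalizer_eq_top]
        exact (hp ▸ mem_top g : g ∈ _root_.commutator E)) y (mem_zpowers y)).symm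
    obtain ⟨P, hP⟩ := (isPElt_iff_isPGroup_zpowers.1 (⟨1, by rw [hy, pow_one]⟩ :
      IsPElt 3 y)).exists_le_sylow
    have hcy : IsCyclic P := (h.fpf.sub E).isCyclic (fun e => by
      obtain ⟨k, hk⟩ := P.isPGroup'.exists_card_eq
      exact absurd (Nat.prime_two.dvd_of_dvd_pow (hk ▸ e)) (by decide))
      (.inr ⟨3, Nat.prime_three, by decide, P.isPGroup'⟩)
    have := inf_commutator_inf_center_le P.card_coprime_index
      ⟨⟨hP (mem_zpowers y), hp ▸ mem_top y⟩, hc⟩
    rw [commutator_eq_bot_iff_le_centralizer.2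
      (le_centralizer_iff_isMulCommutative.2 inferInstance)] at this
    exact hy1 this
  obtain ⟨S, F, _, _, hS, hF, ⟨e⟩⟩ := (Gag2.Hyp.of_core h2 h.faith h.pgrp (exists_ne 0)
    (h.eq_bot (isPGroup_pCore 2 H))).exists_sl2_of_three (fun v hv => (h.syl v hv).2)
    ((orderOf_coe y).trans hy) hy' ne
  exact concl_of_sl h hV S e (by rwa [Nat.card_eq_fintype_card])

end Cfsg.Gag
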